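import Cfsg.Agent.Lib.ZassOddKernel.Basic

/-!
A nonabelian kernel of odd prime power order with small abelianisation does not occur.
-/

set_option autoImplicit false
set_option linter.style.haveILetI false

namespace Cfsg.Agent.Lib.ZassOddKernel

open MulAction Cfsg.Agent.Lib.Char Cfsg.Agent.Lib.Zass
open Cfsg.Agent.Lib.SuzukiKernel (fs fs_bounds fs_eq_zero_iff mult triv cbar cbar_cbar deg_cbar deg_triv
  deg_tw mult_tw tw tw_tw tw_one tw_triv tw_cbar tw_inj tw_eq_self gram_conj gram_not_conj gram_triv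
  deg_eq_sum mult_cbar mult_cbar_right mult_spec linChars mem_linChars)

universe u v

/-- The arithmetic of the orders. -/
theorem abelianisation_arith {p A B e : ℕ} (hp : Odd p) (hp1 : 1 < p) (he : Odd e) (hA : A ≠ 0)
    (hdA : e ∣ p ^ A - 1) (hdB : e ∣ p ^ B - 1) (hbound : p ^ A ≤ 4 * e ^ 2 + 1) : A ∣ B := by
  set g := Nat.gcd A B with hg
  have hgA : g ∣ A := Nat.gcd_dvd_left A B
  have hge : e ∣ p ^ g - 1 := by
    rw [hg, ← Nat.pow_sub_one_gcd_pow_sub_one]; exact Nat.dvd_gcd hdA hdB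
  have hg0 : 0 < g := Nat.gcd_pos_of_pos_left B (Nat.pos_of_ne_zero hA)
  obtain ⟨i, hi⟩ := hgA
  rcases Nat.lt_or_ge i 2 with hi2 | hi2
  · have : i ≠ 0 := fun h => hA (by rw [hi, h, mul_zero])
    rw [hi, show i = 1 by omega, mul_one]
    exact Nat.gcd_dvd_right A B
  exfalso
  have h1 : 1 < p ^ g := Nat.one_lt_pow hg0.ne' hp1
  have h2 : 2 * e ≤ p ^ g - 1 := by
    refine Nat.le_of_dvd (by omega) (Nat.Coprime.mul_dvd_of_dvd_of_dvd ?_ ?_ hge)
    · exact Nat.coprime_two_left.mpr he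
    · exact (Nat.Odd.sub_odd hp.pow odd_one).two_dvd
  have h3 : (p ^ g) ^ 2 ≤ p ^ A := by
    rw [← pow_mul]; exact Nat.pow_le_pow_right hp1.le (hi ▸ Nat.mul_le_mul_left g hi2)
  have h4 : (2 * e) ^ 2 ≤ (p ^ g - 1) ^ 2 := Nat.pow_le_pow_left h2 2
  obtain ⟨w, hw⟩ : ∃ w, p ^ g = w + 1 := ⟨p ^ g - 1, by omega⟩
  rw [hw] at h3
  rw [hw, Nat.add_sub_cancel] at h4
  nlinarith

/-- The final inequalities. -/
theorem no_solution {q e s H N J T A u : ℤ} (hs : 1 ≤ s) (he : 1 ≤ e) (hq : q = 2 * e * s + 1)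
    (hH : H = q * q - 1 ∧ s = 1 ∨ (q * q * q - 1 ≤ H ∧ s = 1) ∨ (q * q - 1 ≤ H ∧ 2 ≤ s))
    (hN : N = H + 1 - q) (hJ : 0 ≤ J) (hT : T * T ≤ 2 * N * J - 2 * s * (J * J))
    (hA : A * A ≤ H) (hu : 0 ≤ u) (hD : H + T ≤ e * A) (hD0 : 0 ≤ H + T) (hA0 : 0 ≤ A)
    (hsmall : H = q * q - 1 → s = 1 →
      (u - 1) * (u - 1) + 2 * (u * u) ≤ H ∧ A ≤ u + 1 ∧ (u = 0 ∨ J ≤ e * (u - 1))) : False := by
  have hqe : 3 ≤ q := by nlinarith
  have hHq : q * q - 1 ≤ H := by
    rcases hH with ⟨h1, -⟩ | ⟨h1, -⟩ | ⟨h1, -⟩ <;> nlinarith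
  have hNH : N < H := by omega
  have hN0 : 0 ≤ N := by nlinarith
  have hT2 : 2 * s * (T * T) ≤ N * N := by nlinarith [mul_self_nonneg (2 * s * J - N)]
  have hT3 : 2 * s * (T * T) < H * H := lt_of_le_of_lt hT2 (by nlinarith)
  have hD2 : (H + T) * (H + T) ≤ e * e * H :=
    calc (H + T) * (H + T) ≤ (e * A) * (e * A) := mul_le_mul hD hD hD0 (by positivity)
      _ = e * e * (A * A) := by ring
      _ ≤ e * e * H := mul_le_mul_of_nonneg_left hA (mul_self_nonneg e)
  rcases hH with ⟨hH, hs1⟩ | ⟨hH, hs1⟩ | ⟨hH, hs2⟩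
  · subst hs1
    obtain ⟨hu2, hAu, hJu⟩ := hsmall hH rfl
    have hq' : q = 2 * e + 1 := by rw [hq]; ring
    have hH' : H = 4 * e * e + 4 * e := by rw [hH, hq']; ring
    have hN' : N = 2 * e * q := by rw [hN, hH, hq']; ring
    have hD3 : H + T ≤ e * (u + 1) := hD.trans (mul_le_mul_of_nonneg_left hAu (by omega))
    rcases hJu with rfl | hJu
    · have h1 : e * (4 * e + 3) ≤ -T := by nlinarith
      have h2 : (e * (4 * e + 3)) * (e * (4 * e + 3)) ≤ T * T := by
        rw [← neg_mul_neg T]; exact mul_le_mul h1 h1 (by positivity) (le_trans (by positivity) h1)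
      rw [hN', hq'] at hT2
      nlinarith
    have hu1 : 1 ≤ u := by nlinarith
    have huq : u ≤ q := by nlinarith
    set j := u - 1 with hj
    have hjq : j ≤ q := by omega
    have h1 : e * (2 * q - j) ≤ -T := by
      have : H + T ≤ e * (j + 2) := by rw [hj]; linear_combination hD3
      rw [hH', hq'] at *
      nlinarith
    have h2 : (e * (2 * q - j)) * (e * (2 * q - j)) ≤ T * T := by
      have h0 : 0 ≤ e * (2 * q - j) := mul_nonneg (by omega) (by omega)
      rw [← neg_mul_neg T]; exact mul_le_mul h1 h1 h0 (le_trans h0 h1)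
    have h3 : 2 * N * J - 2 * (J * J) ≤ 2 * N * (e * j) - 2 * ((e * j) * (e * j)) := by
      have h4 : 0 ≤ N - (e * j + J) := by
        have : e * j ≤ e * q := mul_le_mul_of_nonneg_left hjq (by omega)
        rw [hN']; linarith
      nlinarith [mul_nonneg (sub_nonneg.mpr hJu) h4]
    have h5 : (2 * q - j) * (2 * q - 3 * j) ≤ 0 := by
      have hee : 0 < e * e := by positivity
      have h6 : e * e * ((2 * q - j) * (2 * q - j)) ≤ e * e * (4 * q * j - 2 * (j * j)) := by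
        rw [hN'] at h3 hT
        linarith
      have := le_of_mul_le_mul_left h6 hee
      linarith
    have h7 : 2 * q ≤ 3 * j := by
      by_contra h8
      nlinarith [mul_pos (show 0 < 2 * q - j by omega) (show 0 < 2 * q - 3 * j by omega)]
    rw [hH] at hu2
    have h9 : 3 * u ≥ 2 * q + 3 := by omega
    nlinarith [mul_le_mul h9 h9 (by omega) (by omega)]
  · subst hs1
    have h1 : 4 * (H + T) ≥ H := by
      by_contra h2
      have h3 : 3 * H ≤ -(4 * T) := by omega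
      have : (3 * H) * (3 * H) ≤ (-(4 * T)) * (-(4 * T)) := mul_le_mul h3 h3 (by nlinarith) (by nlinarith)
      nlinarith
    have h4 : H * H ≤ 16 * (e * e * H) := by nlinarith
    have hHpos : 0 < H := by nlinarith
    have h5 : H ≤ 16 * (e * e) := le_of_mul_le_mul_right (by linarith) hHpos
    rw [hq] at hH
    nlinarith
  · have h1 : 2 * (H + T) ≥ H := by
      by_contra h2
      have h3 : H ≤ -(2 * T) := by omega
      have : H * H ≤ (-(2 * T)) * (-(2 * T)) := mul_le_mul h3 h3 (by nlinarith) (by nlinarith)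
      nlinarith
    have hHpos : 0 < H := by nlinarith
    have h4 : H * H ≤ 4 * (e * e * H) := by nlinarith
    have h5 : H ≤ 4 * (e * e) := le_of_mul_le_mul_right (by linarith) hHpos
    rw [hq] at hH
    nlinarith [mul_le_mul_of_nonneg_left hs2 (show 0 ≤ e by omega)]

variable {G : Type u} {Ω : Type v} [Group G] [MulAction G Ω] [Fintype G] [Finite Ω] [IsSimpleGroup G]
variable {U : Subgroup G} {a b : Ω} {v : G} [Fintype U] [Fintype ↥(stabilizer G a ⊓ stabilizer G b)]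

omit [IsSimpleGroup G] in
theorem tw_cbar_self (h : OddKer U a b v) {θ : IrrCharacter U} (hθ : θ ≠ triv)
    (d : ↥(stabilizer G a ⊓ stabilizer G b)) : tw h.kernel d θ ≠ cbar θ := by
  classical
  intro e
  have e2 : tw h.kernel (d * d) θ = θ := by rw [← tw_tw, e, tw_cbar, e, cbar_cbar]
  have hd := tw_eq_self h.kernel h.zass hθ e2
  have : d = 1 := RankOne.eq_one_of_mul_self (h.odd_twoPt.of_dvd_nat (orderOf_dvd_natCard d)) hd
  rw [this, tw_one] at e
  exact (fs_eq_zero_iff θ).mp (by rw [h.fs_kernel, if_neg hθ]) e.symm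

omit [IsSimpleGroup G] in
/-- A nontrivial linear character lies in one nonreal and `|D|` real characters of the group. -/
theorem exists_pair_row (h : OddKer U a b v) {θ : IrrCharacter U} (hθ : charDegree (θ : U → ℂ) = 1)
    (hne : θ ≠ triv) :
    ∃ X : IrrCharacter G, mult U X θ = 1 ∧ fs X = 0 ∧
      ∀ χ : IrrCharacter G, χ ≠ X → mult U χ θ = 0 ∨ (mult U χ θ = 1 ∧ fs χ = 1) := by
  classical
  have h1 := gram_conj h.kernel h.zass hne 1 (G := G)
  simp only [tw_one, hθ, mul_one] at h1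
  have h2 := h.fs_count θ
  rw [if_neg hne, hθ, zero_add, Nat.cast_one, mul_one] at h2
  have h1' : ∑ χ : IrrCharacter G, (mult U χ θ : ℤ) * (mult U χ θ : ℤ) =
      1 + (Nat.card ↥(stabilizer G a ⊓ stabilizer G b) : ℤ) := by exact_mod_cast h1
  set f : IrrCharacter G → ℤ := fun χ => (mult U χ θ : ℤ) * mult U χ θ - fs χ * (mult U χ θ : ℤ) with hf
  have hnn : ∀ χ, 0 ≤ f χ := by
    intro χ
    have := (fs_bounds χ).2
    simp only [hf]
    rcases Nat.eq_zero_or_pos (mult U χ θ) with e | e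
    · simp [e]
    · nlinarith
  have hsum : ∑ χ, f χ = 1 := by
    simp only [hf, Finset.sum_sub_distrib, h1', h2]; ring
  obtain ⟨X, -, hX⟩ := Finset.exists_ne_zero_of_sum_ne_zero (hsum.trans_ne one_ne_zero)
  have hXle : f X ≤ 1 := hsum ▸ Finset.single_le_sum (fun χ _ => hnn χ) (Finset.mem_univ X)
  have hrest : ∀ χ, χ ≠ X → f χ = 0 := by
    intro χ hχ
    rw [← Finset.add_sum_erase _ _ (Finset.mem_univ X)] at hsum
    have := Finset.single_le_sum (fun χ _ => hnn χ)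
      (Finset.mem_erase.mpr ⟨hχ, Finset.mem_univ χ⟩)
    have := hnn χ
    have := hnn X
    omega
  have hfac : ∀ χ, f χ = ((mult U χ θ : ℤ) - fs χ) * mult U χ θ := fun χ => by simp only [hf]; ring
  refine ⟨X, ?_, ?_, fun χ hχ => ?_⟩
  · have hb := fs_bounds X
    have := hnn X
    have hX1 : f X = 1 := by omega
    rw [hfac] at hX1
    rcases Int.mul_eq_one_iff_eq_one_or_neg_one.mp hX1 with ⟨-, e⟩ | ⟨-, e⟩ <;> omega
  · have hb := fs_bounds X
    have := hnn X
    have hX1 : f X = 1 := by omega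
    rw [hfac] at hX1
    rcases Int.mul_eq_one_iff_eq_one_or_neg_one.mp hX1 with ⟨e', e⟩ | ⟨e', e⟩ <;> omega
  · have e := hrest χ hχ
    rw [hfac, mul_eq_zero] at e
    have hb := fs_bounds χ
    rcases e with e | e <;> omega

theorem not_nonabelian (h : OddKer U a b v) {p : ℕ} (hp : p.Prime) (hU : IsPGroup p U)
    (hna : ∃ x y : U, x * y ≠ y * x)
    (hbound : (commutator U).index ≤ 4 * Nat.card ↥(stabilizer G a ⊓ stabilizer G b) ^ 2 + 1) :
    False := by
  classical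
  haveI := Fact.mk hp
  have hK := h.kernel
  have hZ := h.zass
  set e := Nat.card ↥(stabilizer G a ⊓ stabilizer G b) with hedef
  have he_odd : Odd e := h.odd_twoPt
  have he1 : e ≠ 1 := fun e1 => ZassFrob.twoPt_ne_bot hZ hK.ne (Subgroup.card_eq_one.mp e1)
  have he3 : 3 ≤ e := by obtain ⟨k, hk⟩ := he_odd; omega
  -- orders
  obtain ⟨B, hB⟩ := IsPGroup.iff_card.mp hU
  obtain ⟨A, -, hA⟩ := (Nat.dvd_prime_pow hp).mp (hB ▸ (commutator U).index_dvd_card :
    (commutator U).index ∣ p ^ B)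
  haveI : Nontrivial U := by
    obtain ⟨x, y, hxy⟩ := hna
    exact nontrivial_of_ne _ _ hxy
  have hB0 : B ≠ 0 := fun e0 => by
    have := Finite.one_lt_card (α := U)
    rw [hB, e0, pow_zero] at this; omega
  have hpodd : Odd p := by
    have := h.odd_kernel
    rw [hB, Nat.odd_pow_iff hB0] at this
    exact this
  have hcne : commutator U ≠ ⊥ := by
    intro e0
    obtain ⟨x, y, hxy⟩ := hna
    exact hxy (commutatorElement_eq_one_iff_mul_comm.mp ((Subgroup.eq_bot_iff_forall _).mp e0 _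
      (Subgroup.commutator_mem_commutator (Subgroup.mem_top x) (Subgroup.mem_top y))))
  set q := (commutator U).index with hqdef
  set L := (linChars U).erase triv with hLdef
  have hmemL : ∀ {θ}, θ ∈ L ↔ θ ≠ triv ∧ charDegree (θ : U → ℂ) = 1 := by
    intro θ; rw [hLdef, Finset.mem_erase, mem_linChars]
  have hlinc : (linChars U).card = q := by
    rw [hqdef, linChars, ← Fintype.card_subtype, ← Nat.card_eq_fintype_card, card_charDegree_one]
  have hLc : L.card + 1 = q := by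
    rw [hLdef, Finset.card_erase_add_one (mem_linChars.mpr deg_triv), hlinc]
  have hLne : L.Nonempty := by
    haveI := IsPGroup.isNilpotent hU
    have hlt : commutator U < ⊤ := IsSolvable.commutator_lt_top_of_nontrivial U
    have : q ≠ 1 := fun e1 => hlt.ne (Subgroup.index_eq_one.mp e1)
    have : 0 < q := Nat.pos_of_ne_zero Subgroup.index_ne_zero_of_finite
    exact Finset.card_pos.mp (by omega)
  obtain ⟨θ₁, hθ₁⟩ := hLne
  obtain ⟨hne₁, hd₁⟩ := hmemL.mp hθ₁
  -- the rows of the linear characters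
  haveI : Nonempty (IrrCharacter G) := ⟨triv⟩
  choose! X hX1 hX0 hXr using fun θ (hθ : θ ∈ L) =>
    exists_pair_row h (hmemL.mp hθ).2 (hmemL.mp hθ).1
  have hcbL : ∀ θ ∈ L, cbar θ ∈ L := fun θ hθ => by
    obtain ⟨h1, h2⟩ := hmemL.mp hθ
    refine hmemL.mpr ⟨fun e0 => h1 ?_, by rw [deg_cbar, h2]⟩
    rw [← cbar_cbar θ, e0]
    exact Subtype.ext (funext fun _ => map_one _)
  have htwL : ∀ θ ∈ L, ∀ d, tw hK d θ ∈ L := fun θ hθ d => by
    obtain ⟨h1, h2⟩ := hmemL.mp hθ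
    refine hmemL.mpr ⟨fun e0 => h1 ?_, by rw [deg_tw, h2]⟩
    have := congrArg (tw hK d⁻¹) e0
    rwa [tw_tw, inv_mul_cancel, tw_one, tw_triv] at this
  have hXuniq : ∀ θ ∈ L, ∀ χ, fs χ = 0 → mult U χ θ ≠ 0 → χ = X θ := fun θ hθ χ h0 h1 => by
    by_contra hne
    rcases hXr θ hθ χ hne with e0 | ⟨-, e0⟩ <;> omega
  have hXtw : ∀ θ ∈ L, ∀ d, X (tw hK d θ) = X θ := fun θ hθ d =>
    hXuniq θ hθ _ (hX0 _ (htwL θ hθ d)) (by
      rw [← mult_tw hK d, hX1 _ (htwL θ hθ d)]; exact one_ne_zero)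
  have hfsb : ∀ χ : IrrCharacter G, fs χ = 0 → fs (cbar χ) = 0 := fun χ h0 =>
    (fs_eq_zero_iff _).mpr fun e0 => (fs_eq_zero_iff χ).mp h0 (by
      conv_rhs => rw [← cbar_cbar χ, e0])
  have hXcb : ∀ θ ∈ L, X (cbar θ) = cbar (X θ) := fun θ hθ =>
    (hXuniq _ (hcbL θ hθ) _ (hfsb _ (hX0 θ hθ)) (by rw [mult_cbar, hX1 θ hθ]; exact one_ne_zero)).symm
  have hXX : ∀ θ ∈ L, X θ ≠ cbar (X θ) := fun θ hθ e0 =>
    (fs_eq_zero_iff _).mp (hX0 θ hθ) e0.symm
  set S : IrrCharacter U → Finset (IrrCharacter G) := fun θ =>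
    Finset.univ.filter fun χ => fs χ = 1 ∧ mult U χ θ = 1 with hS
  have hSc : ∀ θ ∈ L, (S θ).card = e := by
    intro θ hθ
    have h1 := gram_conj hK hZ (hmemL.mp hθ).1 1 (G := G)
    rw [tw_one, (hmemL.mp hθ).2, mul_one, mul_one, ← Finset.add_sum_erase _ _ (Finset.mem_univ (X θ)),
      hX1 θ hθ, mul_one, ← hedef, Nat.add_left_cancel_iff] at h1
    rw [← h1, hS, Finset.card_filter, ← Finset.add_sum_erase _ _ (Finset.mem_univ (X θ)),
      if_neg (fun hc => by have := hX0 θ hθ; omega), zero_add]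
    refine Finset.sum_congr rfl fun χ hχ => ?_
    rcases hXr θ hθ χ (Finset.ne_of_mem_erase hχ) with e0 | ⟨e0, e2⟩
    · rw [e0, if_neg (by omega), zero_mul]
    · rw [e0, if_pos ⟨e2, rfl⟩, one_mul]
  have hSsum : ∀ θ ∈ L, ∀ f : IrrCharacter G → ℕ,
      ∑ χ, mult U χ θ * f χ = f (X θ) + ∑ χ ∈ S θ, f χ := by
    intro θ hθ f
    rw [← Finset.add_sum_erase _ _ (Finset.mem_univ (X θ)), hX1 θ hθ, one_mul, Nat.add_left_cancel_iff,
      hS, Finset.sum_filter, ← Finset.add_sum_erase _ _ (Finset.mem_univ (X θ)),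
      if_neg (fun hc => by have := hX0 θ hθ; omega), zero_add]
    refine Finset.sum_congr rfl fun χ hχ => ?_
    rcases hXr θ hθ χ (Finset.ne_of_mem_erase hχ) with e0 | ⟨e0, e2⟩
    · rw [e0, if_neg (by omega), zero_mul]
    · rw [e0, if_pos ⟨e2, rfl⟩, one_mul]
  have hScb : ∀ θ, S (cbar θ) = S θ := fun θ => by
    simp only [hS]
    ext χ
    simp only [Finset.mem_filter, Finset.mem_univ, true_and, and_congr_right_iff]
    intro h1
    rw [mult_cbar_right, Lib.SuzukiKernel.cbar_of_fs_one h1]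
  have hStw : ∀ θ d, S (tw hK d θ) = S θ := fun θ d => by simp only [hS, mult_tw]
  have hinter : ∀ θ ∈ L, ∀ θ' ∈ L, (∀ d, tw hK d θ' ≠ θ) →
      (S θ ∩ S θ').card + (if X θ = X θ' then 1 else 0) = e := by
    intro θ hθ θ' hθ' hd
    have h1 := gram_not_conj hK hZ hd (G := G)
    rw [(hmemL.mp hθ).2, (hmemL.mp hθ').2, mul_one, mul_one, ← hedef, hSsum θ hθ] at h1
    have hXS : X θ ∉ S θ' := fun hc => by
      simp only [hS, Finset.mem_filter] at hc; have := hX0 θ hθ; omega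
    rw [← h1, add_comm, Finset.card_eq_sum_ones, ← Finset.filter_mem_eq_inter, Finset.sum_filter]
    congr 1
    · split_ifs with hc
      · rw [hc, hX1 θ' hθ']
      · rcases hXr θ' hθ' _ hc with e0 | ⟨-, e0⟩
        · rw [e0]
        · have := hX0 θ hθ; omega
    · refine Finset.sum_congr rfl fun χ hχ => ?_
      simp only [hS, Finset.mem_filter, Finset.mem_univ, true_and] at hχ ⊢
      have hne : χ ≠ X θ' := fun e0 => by have := hX0 θ' hθ'; rw [← e0] at this; omega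
      rcases hXr θ' hθ' χ hne with e0 | ⟨e0, -⟩ <;> simp [e0, hχ.1]
  have hXne : ∀ θ ∈ L, ∀ θ' ∈ L, (∀ d, tw hK d θ' ≠ θ) → X θ ≠ X θ' ∧ S θ = S θ' := by
    intro θ hθ θ' hθ' hd
    have h1 := hinter θ hθ θ' hθ' hd
    have hX' : X θ ≠ X θ' := by
      intro e0
      rw [if_pos e0] at h1
      have hd2 : ∀ d, tw hK d (cbar θ') ≠ θ := fun d ed => hXX θ' hθ'
        (e0.symm.trans (by rw [← ed, hXtw _ (hcbL θ' hθ'), hXcb θ' hθ']))
      have h2 := hinter θ hθ _ (hcbL θ' hθ') hd2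
      rw [hScb, hXcb θ' hθ', if_neg (by rw [e0]; exact hXX θ' hθ')] at h2
      omega
    rw [if_neg hX', add_zero] at h1
    refine ⟨hX', ?_⟩
    rw [← Finset.eq_of_subset_of_card_le (Finset.inter_subset_left (s₁ := S θ) (s₂ := S θ'))
      (by rw [hSc θ hθ, h1])]
    exact Finset.eq_of_subset_of_card_le Finset.inter_subset_right (by rw [hSc θ' hθ', h1])
  set S₁ := S θ₁ with hS₁
  have hSall : ∀ θ ∈ L, S θ = S₁ := by
    intro θ hθ
    by_cases hd : ∃ d, tw hK d θ₁ = θ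
    · obtain ⟨d, rfl⟩ := hd; exact hStw θ₁ d
    · push Not at hd; exact (hXne θ hθ θ₁ hθ₁ hd).2
  set 𝒳 := L.image X with h𝒳
  have h𝒳c : L.card = 𝒳.card * e := by
    rw [Finset.card_eq_sum_card_image X L, ← h𝒳, Finset.sum_congr rfl (g := fun _ => e),
      Finset.sum_const, smul_eq_mul]
    intro Y hY
    obtain ⟨θ, hθ, rfl⟩ := Finset.mem_image.mp hY
    rw [hedef, Nat.card_eq_fintype_card, ← Finset.card_univ, ← Finset.card_image_of_injective
      Finset.univ (fun x y => tw_inj hK hZ (hmemL.mp hθ).1 (g := x) (k := y))]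
    congr 1
    ext θ'
    simp only [Finset.mem_filter, Finset.mem_image, Finset.mem_univ, true_and]
    refine ⟨fun ⟨hθ', hXe⟩ => ?_, fun ⟨d, hd⟩ => ?_⟩
    · by_contra hno
      push Not at hno
      exact (hXne θ' hθ' θ hθ hno).1 hXe
    · subst hd; exact ⟨htwL θ hθ d, hXtw θ hθ d⟩
  have h𝒳even : Even 𝒳.card := by
    have hqodd : Odd q := by rw [hA]; exact hpodd.pow
    have : Even (𝒳.card * e) := by
      rw [← h𝒳c]; obtain ⟨k, hk⟩ := hqodd; exact ⟨k, by omega⟩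
    exact (Nat.even_mul.mp this).resolve_right (Nat.not_even_iff_odd.mpr he_odd)
  obtain ⟨s, hs⟩ := h𝒳even
  have hq : q = 2 * e * s + 1 := by rw [← hLc, h𝒳c, hs]; ring
  have hs0 : 1 ≤ s := by
    have : 0 < L.card := Finset.card_pos.mpr ⟨θ₁, hθ₁⟩
    rw [h𝒳c, hs] at this
    rcases Nat.eq_zero_or_pos s with e0 | e0
    · simp [e0] at this
    · exact e0
  -- arithmetic of the orders
  have hA0 : A ≠ 0 := fun e0 => by rw [e0, pow_zero] at hA; nlinarith
  have hdA : e ∣ p ^ A - 1 := by rw [← hA, hq, Nat.add_sub_cancel]; exact ⟨2 * s, by ring⟩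
  have hdB : e ∣ p ^ B - 1 := by
    have := ZassFrob.card_twoPt_dvd hZ hK.ne
    rw [← hK.card_eq, hB] at this
    rwa [show p ^ B + 1 - 2 = p ^ B - 1 by omega] at this
  obtain ⟨i, hi⟩ := abelianisation_arith hpodd hp.one_lt he_odd hA0 hdA hdB (hA ▸ hbound)
  have hi2 : 2 ≤ i := by
    by_contra hlt
    have hle : B ≤ A := by
      rw [hi]; exact (Nat.mul_le_mul_left A (show i ≤ 1 by omega)).trans (mul_one A).le
    have h1 := Subgroup.card_mul_index (commutator U)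
    have h2 : Nat.card U ≤ q := by rw [hB, hA]; exact Nat.pow_le_pow_right hp.one_lt.le hle
    have h3 : 1 < Nat.card (commutator U) := Finite.one_lt_card_iff_nontrivial.mpr
      ((Subgroup.nontrivial_iff_ne_bot _).mpr hcne)
    rw [← hqdef] at h1
    nlinarith
  have hUq : Nat.card U = q ^ i := by rw [hB, hA, ← pow_mul, hi]
  have hq2 : q ^ 2 ≤ Nat.card U := hUq ▸ Nat.pow_le_pow_right (by nlinarith) hi2
  -- the induced rows
  obtain ⟨P, hP2, hPz, hPT, st, hstP, hPv⟩ := Lib.SuzukiKernel.induced_rows hK hZ h.cyclic h.odd_twoPt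
    (by rw [← hedef]; nlinarith)
  rw [← hedef] at hP2 hPT
  have hP1 : ∀ χ ∈ P, ∀ θ ∈ L, mult U χ θ = 1 := fun χ hχ θ hθ => by
    rw [hPz χ hχ θ (hmemL.mp hθ).1, (hmemL.mp hθ).2]
  have hPS : P ⊆ S₁ := by
    intro χ hχ
    have hne : χ ≠ X θ₁ := by
      intro e0
      by_cases hne2 : χ = X (cbar θ₁)
      · exact hXX θ₁ hθ₁ (e0.symm.trans (hne2.trans (hXcb θ₁ hθ₁)))
      · rcases hXr _ (hcbL θ₁ hθ₁) χ hne2 with e1 | ⟨-, e1⟩
        · rw [hP1 χ hχ _ (hcbL θ₁ hθ₁)] at e1; omega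
        · rw [e0, hX0 θ₁ hθ₁] at e1; omega
    rcases hXr θ₁ hθ₁ χ hne with e0 | ⟨e0, e1⟩
    · rw [hP1 χ hχ θ₁ hθ₁] at e0; omega
    · simp only [hS₁, hS, Finset.mem_filter, Finset.mem_univ, true_and]; exact ⟨e1, e0⟩
  set R := S₁ \ P with hR
  have hRc : 2 * R.card + 1 = e := by
    rw [hR, Finset.card_sdiff_of_subset hPS, hS₁, hSc θ₁ hθ₁]; omega
  have hTX : ∀ θ ∈ L, mult U (X θ) triv = 0 ∧ ∑ χ ∈ R, mult U χ triv = 0 := by
    intro θ hθ
    have h1 := gram_triv hK hZ (hmemL.mp hθ).1 (G := G)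
    rw [hSsum θ hθ, hSall θ hθ, (hmemL.mp hθ).2, mul_one, ← Finset.sum_sdiff hPS, ← hR, hPT,
      ← hedef] at h1
    omega
  have hRfs : ∀ χ ∈ R, fs χ = 1 := fun χ hχ => by
    have := (Finset.mem_sdiff.mp hχ).1
    simp only [hS₁, hS, Finset.mem_filter] at this
    exact this.2.1
  have hXnS : ∀ θ ∈ L, X θ ∉ S₁ := fun θ hθ hc => by
    simp only [hS₁, hS, Finset.mem_filter] at hc
    have := hX0 θ hθ
    omega
  set M := (linChars U)ᶜ with hM
  set k : IrrCharacter U → ℕ := fun θ => mult U (X θ₁) θ with hk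
  have hMdeg : ∀ θ ∈ M, charDegree (θ : U → ℂ) ≠ 1 ∧ θ ≠ triv := fun θ hθ => by
    rw [hM, Finset.mem_compl, mem_linChars] at hθ
    exact ⟨hθ, fun e0 => hθ (by rw [e0, deg_triv])⟩
  have hMsum : ∀ θ ∈ M, ∀ lam ∈ L,
      mult U (X lam) θ + ∑ χ ∈ S₁, mult U χ θ = e * charDegree (θ : U → ℂ) := by
    intro θ hθ lam hlam
    have h1 := gram_not_conj hK hZ (θ := lam) (θ' := θ) (G := G) fun d e0 =>
      (hMdeg θ hθ).1 (by rw [← deg_tw hK d, e0, (hmemL.mp hlam).2])
    rw [hSsum lam hlam, hSall lam hlam, (hmemL.mp hlam).2, mul_one, ← hedef] at h1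
    exact h1
  have hXk : ∀ θ ∈ M, ∀ lam ∈ L, mult U (X lam) θ = k θ := fun θ hθ lam hlam => by
    have := hMsum θ hθ lam hlam; have := hMsum θ hθ θ₁ hθ₁; simp only [hk]; omega
  have hkcb : ∀ θ ∈ M, k (cbar θ) = k θ := by
    intro θ hθ
    rw [← hXk θ hθ _ (hcbL θ₁ hθ₁), hXcb θ₁ hθ₁]
    exact mult_cbar_right U _ θ
  have hdis : Disjoint R 𝒳 := Finset.disjoint_right.mpr fun Y hY hYR => by
    obtain ⟨θ, hθ, rfl⟩ := Finset.mem_image.mp hY
    exact hXnS θ hθ (Finset.mem_sdiff.mp hYR).1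
  set δ : IrrCharacter U → IrrCharacter G → ℤ := fun θ χ =>
    (mult U χ θ : ℤ) - charDegree (θ : U → ℂ) with hδ
  have hsumδ : ∀ θ ∈ M, ∑ χ ∈ R, δ θ χ = -(k θ : ℤ) := by
    intro θ hθ
    have h1 := hMsum θ hθ θ₁ hθ₁
    rw [← Finset.sum_sdiff hPS, ← hR, Finset.sum_congr rfl fun χ hχ => hPz χ hχ θ (hMdeg θ hθ).2,
      Finset.sum_const, smul_eq_mul] at h1
    have h1' : (k θ : ℤ) + (∑ χ ∈ R, (mult U χ θ : ℤ) + (P.card : ℤ) * charDegree (θ : U → ℂ)) =
        e * charDegree (θ : U → ℂ) := by exact_mod_cast h1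
    have hP2' : 2 * (P.card : ℤ) = e + 1 := by exact_mod_cast hP2
    have hR2' : 2 * (R.card : ℤ) + 1 = e := by exact_mod_cast hRc
    simp only [hδ, Finset.sum_sub_distrib, Finset.sum_const, nsmul_eq_mul]
    linarith [mul_comm (P.card : ℤ) (charDegree (θ : U → ℂ)),
      show (P.card : ℤ) * charDegree (θ : U → ℂ) + (R.card : ℤ) * charDegree (θ : U → ℂ) =
        e * charDegree (θ : U → ℂ) by
        rw [← add_mul, show (P.card : ℤ) + R.card = e by omega]]
  have hsqδ : ∀ θ ∈ M, ∑ χ ∈ R, δ θ χ ^ 2 + 2 * (s : ℤ) * (k θ : ℤ) ^ 2 ≤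
      2 * (charDegree (θ : U → ℂ) : ℤ) * k θ := by
    intro θ hθ
    set z := charDegree (θ : U → ℂ) with hz
    have g1 : ∑ χ : IrrCharacter G, (mult U χ θ : ℤ) ^ 2 = 1 + e * z ^ 2 := by
      have := gram_conj hK hZ (hMdeg θ hθ).2 1 (G := G)
      rw [tw_one, ← hz, ← hedef] at this
      simp only [pow_two, ← mul_assoc]
      exact_mod_cast this
    -- a further character
    obtain ⟨y, hyS, hy𝒳, hy⟩ : ∃ y, y ∉ S₁ ∧ y ∉ 𝒳 ∧ mult U y θ ≠ 0 := by
      obtain ⟨y, hy⟩ : ∃ y : IrrCharacter G, mult U y θ ≠ mult U y (cbar θ) := by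
        by_contra hno
        push Not at hno
        have h1 := gram_conj hK hZ (hMdeg θ hθ).2 1 (G := G)
        have h2 := gram_not_conj hK hZ (θ := θ) (θ' := cbar θ) (G := G) fun d e0 => by
          refine tw_cbar_self h (θ := θ) (hMdeg θ hθ).2 d⁻¹ ?_
          conv_lhs => rw [← e0, tw_tw, inv_mul_cancel, tw_one]
        simp only [tw_one, deg_cbar, ← hno] at h1 h2
        omega
      have hyS : y ∉ S₁ := fun hc => hy (by
        simp only [hS₁, hS, Finset.mem_filter] at hc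
        rw [mult_cbar_right, Lib.SuzukiKernel.cbar_of_fs_one hc.2.1])
      have hy𝒳 : y ∉ 𝒳 := fun hc => by
        obtain ⟨lam, hlam, rfl⟩ := Finset.mem_image.mp hc
        refine hy ?_
        rw [hXk θ hθ lam hlam, mult_cbar_right, ← hXcb lam hlam, hXk θ hθ _ (hcbL lam hlam)]
      by_cases hy0 : mult U y θ = 0
      · refine ⟨cbar y, fun hc => ?_, fun hc => ?_, by rw [← mult_cbar_right]; omega⟩
        · have hfs : fs (cbar y) = 1 := by
            simp only [hS₁, hS, Finset.mem_filter] at hc; exact hc.2.1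
          have := Lib.SuzukiKernel.cbar_of_fs_one hfs
          rw [cbar_cbar] at this
          exact hyS (this.symm ▸ hc)
        · obtain ⟨lam, hlam, he0⟩ := Finset.mem_image.mp hc
          exact hy𝒳 (Finset.mem_image.mpr ⟨cbar lam, hcbL lam hlam, by
            rw [hXcb lam hlam, he0, cbar_cbar]⟩)
      · exact ⟨y, hyS, hy𝒳, hy0⟩
    have hsub : ∑ χ ∈ S₁, (mult U χ θ : ℤ) ^ 2 + ∑ χ ∈ 𝒳, (mult U χ θ : ℤ) ^ 2 + 1 ≤ 1 + e * z ^ 2 := by
      rw [← g1]
      have hd' : Disjoint S₁ 𝒳 := Finset.disjoint_right.mpr fun Y hY hYS => by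
        obtain ⟨lam, hlam, rfl⟩ := Finset.mem_image.mp hY
        exact hXnS lam hlam hYS
      have h1 : (1 : ℤ) ≤ (mult U y θ : ℤ) ^ 2 :=
        one_le_pow₀ (by exact_mod_cast Nat.pos_of_ne_zero hy)
      have h2 := Finset.sum_le_sum_of_subset_of_nonneg
        (f := fun χ : IrrCharacter G => (mult U χ θ : ℤ) ^ 2)
        (Finset.subset_univ (insert y (S₁ ∪ 𝒳))) fun _ _ _ => sq_nonneg _
      rw [Finset.sum_insert (by simp [hyS, hy𝒳]), Finset.sum_union hd'] at h2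
      linarith
    rw [← Finset.sum_sdiff hPS, ← hR, Finset.sum_congr rfl (s₁ := P) (g := fun _ => (z : ℤ) ^ 2)
      (fun χ hχ => by rw [hPz χ hχ θ (hMdeg θ hθ).2]), Finset.sum_congr rfl (s₁ := 𝒳)
      (g := fun _ => (k θ : ℤ) ^ 2) (fun Y hY => by
        obtain ⟨lam, hlam, rfl⟩ := Finset.mem_image.mp hY
        rw [hXk θ hθ lam hlam]), Finset.sum_const, Finset.sum_const, hs, nsmul_eq_mul, nsmul_eq_mul] at hsub
    have h3 : ∑ χ ∈ R, δ θ χ ^ 2 = ∑ χ ∈ R, (mult U χ θ : ℤ) ^ 2 - 2 * (z : ℤ) * ∑ χ ∈ R, δ θ χ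
        - (R.card : ℤ) * (z : ℤ) ^ 2 := by
      rw [Finset.mul_sum, ← nsmul_eq_mul, ← Finset.sum_const, ← Finset.sum_sub_distrib,
        ← Finset.sum_sub_distrib]
      exact Finset.sum_congr rfl fun χ _ => by simp only [hδ, ← hz]; ring
    rw [h3, hsumδ θ hθ]
    have hPR : (P.card : ℤ) + R.card = e := by omega
    push_cast at hsub
    linear_combination hsub + (z : ℤ) ^ 2 * 0 - (z : ℤ) ^ 2 * hPR
  -- degrees
  set J : ℤ := ∑ θ ∈ M, (charDegree (θ : U → ℂ) : ℤ) * k θ with hJ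
  set T : IrrCharacter G → ℤ := fun χ => ∑ θ ∈ M, (charDegree (θ : U → ℂ) : ℤ) * δ θ χ with hT
  set N : ℤ := ∑ θ ∈ M, (charDegree (θ : U → ℂ) : ℤ) ^ 2 with hN
  have hN' : N = (Nat.card U : ℤ) - q := by
    have h1 := sum_charDegree_sq (G := U)
    rw [← Finset.sum_compl_add_sum (linChars U), ← hM, Finset.sum_congr rfl (s₁ := linChars U)
      (g := fun _ => 1) (fun θ hθ => by rw [mem_linChars.mp hθ, one_pow]), Finset.sum_const, hlinc,
      smul_eq_mul, mul_one] at h1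
    rw [hN, eq_sub_iff_add_eq]
    exact_mod_cast h1
  have hpz : ∀ θ ∈ M, (p : ℤ) ∣ (charDegree (θ : U → ℂ) : ℤ) := by
    intro θ hθ
    obtain ⟨c, -, hc⟩ := (Nat.dvd_prime_pow hp).mp (hB ▸ charDegree_dvd_card θ.2 :
      charDegree (θ : U → ℂ) ∣ p ^ B)
    rw [hc]
    have : c ≠ 0 := fun e0 => (hMdeg θ hθ).1 (by rw [hc, e0, pow_zero])
    exact Int.natCast_dvd_natCast.mpr (dvd_pow_self p this)
  have hdegR : ∀ χ ∈ R, (charDegree (χ : G → ℂ) : ℤ) = (Nat.card U : ℤ) - 1 + T χ := by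
    intro χ hχ
    have hT0 : mult U χ triv = 0 := Finset.sum_eq_zero_iff.mp (hTX θ₁ hθ₁).2 χ hχ
    rw [deg_eq_sum U χ, ← Finset.sum_compl_add_sum (linChars U), ← hM,
      ← Finset.add_sum_erase _ _ (mem_linChars.mpr (deg_triv (X := U))), hT0, zero_mul, zero_add,
      ← hLdef, Finset.sum_congr rfl (s₁ := L) (g := fun _ => 1) (fun θ hθ => by
        have := (Finset.mem_sdiff.mp hχ).1
        rw [← hSall θ hθ] at this
        simp only [hS, Finset.mem_filter] at this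
        rw [this.2.2, (hmemL.mp hθ).2]), Finset.sum_const, smul_eq_mul, mul_one]
    push_cast
    have hLc' : (L.card : ℤ) = q - 1 := by omega
    have h1 : T χ = ∑ θ ∈ M, ((mult U χ θ : ℤ) * charDegree (θ : U → ℂ)) - N := by
      simp only [hT, hN, ← Finset.sum_sub_distrib, hδ]
      exact Finset.sum_congr rfl fun θ _ => by ring
    rw [h1, hN', hLc']
    ring
  have hdegX : ∀ lam ∈ L, (charDegree (X lam : G → ℂ) : ℤ) = e + J := by
    intro lam hlam
    rw [deg_eq_sum U (X lam), ← Finset.sum_compl_add_sum (linChars U), ← hM,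
      ← Finset.add_sum_erase _ _ (mem_linChars.mpr (deg_triv (X := U))), (hTX lam hlam).1, zero_mul,
      zero_add, ← hLdef]
    have h1 : ∑ θ ∈ L, mult U (X lam) θ * charDegree (θ : U → ℂ) = e := by
      rw [Finset.sum_congr rfl (g := fun θ => if ∃ d, tw hK d lam = θ then 1 else 0) fun θ hθ => ?_,
        ← Finset.card_filter, hedef, Nat.card_eq_fintype_card, ← Finset.card_univ,
        ← Finset.card_image_of_injective Finset.univ
          (fun x y => tw_inj hK hZ (hmemL.mp hlam).1 (g := x) (k := y))]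
      · congr 1
        ext θ
        simp only [Finset.mem_filter, Finset.mem_image, Finset.mem_univ, true_and]
        exact ⟨fun hh => hh.2, fun ⟨d, hd⟩ => ⟨hd ▸ htwL lam hlam d, d, hd⟩⟩
      · rw [(hmemL.mp hθ).2, mul_one]
        split_ifs with hd
        · obtain ⟨d, rfl⟩ := hd
          rw [mult_tw, hX1 lam hlam]
        · push Not at hd
          rcases hXr θ hθ (X lam) (hXne θ hθ lam hlam hd).1.symm with e0 | ⟨-, e0⟩
          · exact e0
          · have := hX0 lam hlam; omega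
    rw [h1, hJ]
    push_cast
    rw [add_comm, Finset.sum_congr rfl fun θ hθ => by rw [hXk θ hθ lam hlam]]
    congr 1
    exact Finset.sum_congr rfl fun θ _ => mul_comm _ _
  have hTsum : ∑ χ ∈ R, T χ = -J := by
    simp only [hT, hJ]
    rw [Finset.sum_comm, ← Finset.sum_neg_distrib]
    exact Finset.sum_congr rfl fun θ hθ => by rw [← Finset.mul_sum, hsumδ θ hθ, mul_neg]
  have hJ0 : 0 ≤ J := Finset.sum_nonneg fun θ _ => by positivity
  have hTsq : ∑ χ ∈ R, T χ ^ 2 ≤ 2 * N * J - 2 * (s : ℤ) * J ^ 2 := by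
    have h1 : ∑ χ ∈ R, T χ ^ 2 ≤ ∑ χ ∈ R, N * ∑ θ ∈ M, δ θ χ ^ 2 :=
      Finset.sum_le_sum fun χ _ => Finset.sum_mul_sq_le_sq_mul_sq M _ _
    rw [← Finset.mul_sum, Finset.sum_comm] at h1
    have h2 : ∑ θ ∈ M, ∑ χ ∈ R, δ θ χ ^ 2 ≤ 2 * J - 2 * (s : ℤ) * ∑ θ ∈ M, (k θ : ℤ) ^ 2 := by
      rw [hJ, Finset.mul_sum, Finset.mul_sum, ← Finset.sum_sub_distrib]
      exact Finset.sum_le_sum fun θ hθ => by have := hsqδ θ hθ; linarith
    have h3 : J ^ 2 ≤ N * ∑ θ ∈ M, (k θ : ℤ) ^ 2 := Finset.sum_mul_sq_le_sq_mul_sq M _ _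
    have hN0 : 0 ≤ N := Finset.sum_nonneg fun θ _ => sq_nonneg _
    nlinarith [mul_le_mul_of_nonneg_left h2 hN0,
      mul_le_mul_of_nonneg_left h3 (show (0 : ℤ) ≤ 2 * s by positivity)]
  -- values at the involution
  obtain ⟨α, hα, hα2, hαc, hαd⟩ := h.exists_values
  have hstv := hPv v (fun x => h.not_mem_stab)
  have hαst : α st = -1 := by
    have := hα st; rw [hstv.1] at this; exact_mod_cast this.symm
  have hαP : ∀ χ ∈ P, χ ≠ st → α χ = 0 := fun χ hχ hne => by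
    have := hα χ; rw [hstv.2 χ hχ hne] at this; exact_mod_cast this.symm
  have hαlam : ∀ lam ∈ L, α (X lam) + ∑ χ ∈ R, α χ = 1 := by
    intro lam hlam
    have h1 := hαc lam
    rw [← Finset.add_sum_erase _ _ (Finset.mem_univ (X lam)), hX1 lam hlam, Nat.cast_one, mul_one] at h1
    have h2 : ∑ χ ∈ Finset.univ.erase (X lam), α χ * (mult U χ lam : ℤ) = ∑ χ ∈ S lam, α χ := by
      simp only [hS, Finset.sum_filter]
      rw [← Finset.add_sum_erase Finset.univ _ (Finset.mem_univ (X lam)),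
        if_neg (fun hc => by have := hX0 lam hlam; omega), zero_add]
      refine Finset.sum_congr rfl fun χ hχ => ?_
      rcases hXr lam hlam χ (Finset.ne_of_mem_erase hχ) with e0 | ⟨e0, e2⟩
      · rw [e0, if_neg (by omega), Nat.cast_zero, mul_zero]
      · rw [e0, if_pos ⟨e2, rfl⟩, Nat.cast_one, mul_one]
    rw [h2, hSall lam hlam, ← Finset.sum_sdiff hPS, ← hR, Finset.sum_eq_single_of_mem st hstP hαP,
      hαst] at h1
    linarith
  set ξ := α (X θ₁) with hξ
  have hαX : ∀ Y ∈ 𝒳, α Y = ξ := fun Y hY => by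
    obtain ⟨lam, hlam, rfl⟩ := Finset.mem_image.mp hY
    have := hαlam lam hlam; have := hαlam θ₁ hθ₁; omega
  have hαtriv : α triv = 1 := by
    have := hα triv; simp only [triv] at this; exact_mod_cast this.symm
  have htriv0 : ∀ θ : IrrCharacter U, θ ≠ triv → mult U (triv : IrrCharacter G) θ = 0 := fun θ hθ => by
    have e' := mult_spec U (triv : IrrCharacter G) θ
    rw [show (fun u : U => ((triv : IrrCharacter G) : G → ℂ) u) = ((triv : IrrCharacter U) : U → ℂ)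
      from rfl, classInner_irr_ne (triv (X := U)).2 θ.2 (fun e => hθ (Subtype.ext e).symm)] at e'
    exact_mod_cast e'.symm
  have hsum2 : ∑ χ ∈ R, α χ ^ 2 + 2 * (s : ℤ) * ξ ^ 2 ≤ (Nat.card U : ℤ) - 1 := by
    have ht1 : (triv : IrrCharacter G) ∉ R ∪ 𝒳 := by
      rw [Finset.mem_union]
      rintro (hc | hc)
      · have := (Finset.mem_sdiff.mp hc).1
        simp only [hS₁, hS, Finset.mem_filter, htriv0 θ₁ hne₁] at this
        omega
      · obtain ⟨lam, hlam, he0⟩ := Finset.mem_image.mp hc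
        have := hX1 lam hlam
        rw [he0, htriv0 lam (hmemL.mp hlam).1] at this
        omega
    have hst1 : st ∉ R ∪ 𝒳 := by
      rw [Finset.mem_union]
      rintro (hc | hc)
      · exact (Finset.mem_sdiff.mp hc).2 hstP
      · obtain ⟨lam, hlam, he0⟩ := Finset.mem_image.mp hc
        exact hXnS lam hlam (he0 ▸ hPS hstP)
    have hts : (triv : IrrCharacter G) ≠ st := fun e0 => by
      have := hP1 st hstP θ₁ hθ₁
      rw [← e0, htriv0 θ₁ hne₁] at this
      omega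
    have h2 := Finset.sum_le_sum_of_subset_of_nonneg (f := fun χ : IrrCharacter G => α χ ^ 2)
      (Finset.subset_univ (insert triv (insert st (R ∪ 𝒳)))) fun _ _ _ => sq_nonneg _
    rw [hα2, Finset.sum_insert (by simp [hts, ht1, Finset.mem_union.not.mp ht1]),
      Finset.sum_insert hst1, Finset.sum_union hdis, hαtriv, hαst,
      Finset.sum_congr rfl (s₁ := 𝒳) (g := fun _ => ξ ^ 2) (fun Y hY => by rw [hαX Y hY]),
      Finset.sum_const, hs, nsmul_eq_mul] at h2
    push_cast at h2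
    linarith
  -- divisibility
  have hpe : IsCoprime (p : ℤ) (e : ℤ) := by
    refine Nat.isCoprime_iff_coprime.mpr ((Nat.Prime.coprime_iff_not_dvd hp).mpr fun hd => ?_)
    have h1 : p ∣ p ^ B := dvd_pow_self p hB0
    have h2 := Nat.dvd_sub h1 (hd.trans hdB)
    rw [Nat.sub_sub_self (Nat.one_le_pow _ _ hp.pos)] at h2
    exact hp.one_lt.ne' (Nat.dvd_one.mp h2)
  have hpU : (p : ℤ) ∣ (Nat.card U : ℤ) := by
    rw [hB]; exact Int.natCast_dvd_natCast.mpr (dvd_pow_self p hB0)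
  have hcopR : ∀ χ ∈ R, IsCoprime (charDegree (χ : G → ℂ) : ℤ) (Nat.card U : ℤ) := by
    intro χ hχ
    rw [hB, Nat.cast_pow]
    refine IsCoprime.pow_right ?_
    rw [hdegR χ hχ]
    obtain ⟨c, hc⟩ : (p : ℤ) ∣ (Nat.card U : ℤ) + T χ :=
      dvd_add hpU (Finset.dvd_sum fun θ hθ => (hpz θ hθ).mul_right _)
    exact ⟨-1, c, by linear_combination -hc⟩
  have hcopX : IsCoprime (charDegree (X θ₁ : G → ℂ) : ℤ) (Nat.card U : ℤ) := by
    rw [hB, Nat.cast_pow]
    refine IsCoprime.pow_right ?_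
    rw [hdegX θ₁ hθ₁]
    obtain ⟨c, hc⟩ : (p : ℤ) ∣ J := Finset.dvd_sum fun θ hθ => (hpz θ hθ).mul_right _
    obtain ⟨x, y, hxy⟩ := hpe
    exact ⟨y, x - c * y, by rw [hc]; linear_combination hxy⟩
  have hdA' : ∀ χ ∈ R, (charDegree (χ : G → ℂ) : ℤ) ∣ (e : ℤ) * α χ := fun χ hχ =>
    (hcopR χ hχ).dvd_of_dvd_mul_left (by
      have := hαd χ; rw [← hedef, mul_assoc] at this; exact this)
  by_cases hzero : ∀ χ ∈ R, α χ = 0
  · have hξ1 : ξ = 1 := by
      have := hαlam θ₁ hθ₁; rw [Finset.sum_eq_zero hzero, add_zero] at this; exact this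
    have h1 : (charDegree (X θ₁ : G → ℂ) : ℤ) ∣ (e : ℤ) := by
      refine hcopX.dvd_of_dvd_mul_left ?_
      have := hαd (X θ₁)
      rwa [← hξ, hξ1, mul_one, ← hedef] at this
    rw [hdegX θ₁ hθ₁] at h1
    have hJz : J = 0 := by
      have := Int.le_of_dvd (by omega) h1; omega
    have hTz : ∀ χ ∈ R, T χ = 0 := by
      intro χ hχ
      have h2 := Finset.single_le_sum (f := fun χ => T χ ^ 2) (fun χ _ => sq_nonneg (T χ)) hχ
      have h3 : T χ ^ 2 ≤ 0 := by
        rw [hJz] at hTsq; linarith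
      exact pow_eq_zero_iff two_ne_zero |>.mp (le_antisymm h3 (sq_nonneg _))
    obtain ⟨χ, hχ⟩ := Finset.card_pos.mp (show 0 < R.card by omega)
    have h4 : (charDegree (χ : G → ℂ) : ℤ) ∣ ((Nat.card U : ℤ) + 1) * e := by
      refine (hcopR χ hχ).dvd_of_dvd_mul_left ?_
      have := Int.natCast_dvd_natCast.mpr (charDegree_dvd_card χ.2)
      rw [Lib.SuzukiKernel.card_G hK hZ, ← hedef] at this
      push_cast at this
      refine this.trans (dvd_of_eq ?_)
      ring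
    rw [hdegR χ hχ, hTz χ hχ, add_zero] at h4
    have h5 : (Nat.card U : ℤ) - 1 ∣ 2 * e := by
      have := dvd_sub h4 (dvd_mul_right ((Nat.card U : ℤ) - 1) e)
      rwa [show ((Nat.card U : ℤ) + 1) * e - ((Nat.card U : ℤ) - 1) * e = 2 * e by ring] at this
    have h6 := Int.le_of_dvd (by positivity) h5
    have h7 : (q : ℤ) ^ 2 ≤ Nat.card U := by exact_mod_cast hq2
    have h8 : (q : ℤ) = 2 * e * s + 1 := by exact_mod_cast hq
    have h9 : (1 : ℤ) ≤ s := by exact_mod_cast hs0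
    nlinarith
  push Not at hzero
  obtain ⟨χ, hχ, hαχ⟩ := hzero
  have hbd : ∀ y ∈ R, α y ≠ 0 → (Nat.card U : ℤ) - 1 + T y ≤ e * |α y| := by
    intro y hy hy0
    rw [← hdegR y hy]
    refine le_trans (Int.le_of_dvd (abs_pos.mpr (mul_ne_zero (by omega) hy0)) ((dvd_abs _ _).mpr (hdA' y hy))) ?_
    rw [abs_mul, Nat.abs_cast]
  have hone : ∀ y ∈ R, α y ^ 2 ≤ (Nat.card U : ℤ) - 1 := fun y hy => by
    have := Finset.single_le_sum (f := fun χ => α χ ^ 2) (fun χ _ => sq_nonneg (α χ)) hy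
    have : 0 ≤ 2 * (s : ℤ) * ξ ^ 2 := by positivity
    linarith
  have h8 : (q : ℤ) = 2 * e * s + 1 := by exact_mod_cast hq
  refine no_solution (q := (q : ℤ)) (e := (e : ℤ)) (s := (s : ℤ)) (H := (Nat.card U : ℤ) - 1) (N := N)
    (J := J) (T := T χ) (A := |α χ|) (u := |ξ|) (by exact_mod_cast hs0) (by omega) h8 ?_
    (by rw [hN']; ring) hJ0 ?_ (by rw [abs_mul_abs_self, ← pow_two]; exact hone χ hχ) (abs_nonneg _)
    (hbd χ hχ hαχ) ?_ (abs_nonneg _) fun hH hs1 => ?_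
  · rcases Nat.lt_or_ge s 2 with hs2 | hs2
    · rcases Nat.lt_or_ge i 3 with hi3 | hi3
      · left
        refine ⟨?_, by omega⟩
        rw [hUq, show i = 2 by omega, ← pow_two]; push_cast; rfl
      · right; left
        refine ⟨?_, by omega⟩
        have : (q : ℤ) ^ 3 ≤ Nat.card U := by
          exact_mod_cast hUq ▸ Nat.pow_le_pow_right (by omega) hi3
        linarith [show (q : ℤ) * q * q = (q : ℤ) ^ 3 by ring]
    · right; right
      refine ⟨?_, by exact_mod_cast hs2⟩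
      have : (q : ℤ) ^ 2 ≤ Nat.card U := by exact_mod_cast hq2
      linarith [show (q : ℤ) * q = (q : ℤ) ^ 2 by ring]
  · have := Finset.single_le_sum (f := fun χ => T χ ^ 2) (fun χ _ => sq_nonneg (T χ)) hχ
    linarith [show T χ * T χ = T χ ^ 2 by ring, show J * J = J ^ 2 by ring]
  · rw [← hdegR χ hχ]; positivity
  · -- only one nonzero value
    have hs' : (s : ℤ) = 1 := hs1
    have hqe : (q : ℤ) = 2 * e + 1 := by rw [h8, hs']; ring
    have huniq : ∀ y ∈ R, y ≠ χ → α y = 0 := by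
      intro y hy hne
      by_contra hy0
      have hb : ∀ w ∈ R, α w ≠ 0 → (e : ℤ) * (2 * e + 3) ≤ -T w := by
        intro w hw hw0
        have h1 := hbd w hw hw0
        have h2 : |α w| < q := by
          refine abs_lt_of_sq_lt_sq (lt_of_le_of_lt (hone w hw) ?_) (by positivity)
          rw [hH]; linarith [show (q : ℤ) * q = (q : ℤ) ^ 2 by ring]
        have h3 : (e : ℤ) * |α w| ≤ e * (q - 1) := mul_le_mul_of_nonneg_left (by omega) (by positivity)
        rw [hH] at h1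
        rw [hqe] at h1 h3
        nlinarith
      have h4 := Finset.sum_le_sum_of_subset_of_nonneg (f := fun χ => T χ ^ 2)
        (show {y, χ} ⊆ R by simp [Finset.insert_subset_iff, hy, hχ]) fun _ _ _ => sq_nonneg _
      rw [Finset.sum_pair hne] at h4
      have h5 := hb y hy hy0
      have h6 := hb χ hχ hαχ
      have h0 : (0 : ℤ) ≤ e * (2 * e + 3) := by positivity
      have h5' : (e * (2 * e + 3) : ℤ) * (e * (2 * e + 3)) ≤ T y ^ 2 := by
        rw [pow_two, ← neg_mul_neg (T y)]; exact mul_le_mul h5 h5 h0 (le_trans h0 h5)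
      have h6' : (e * (2 * e + 3) : ℤ) * (e * (2 * e + 3)) ≤ T χ ^ 2 := by
        rw [pow_two, ← neg_mul_neg (T χ)]; exact mul_le_mul h6 h6 h0 (le_trans h0 h6)
      have hNq : N = 2 * e * q := by
        rw [hN', show (Nat.card U : ℤ) = q * q by linarith, hqe]; ring
      rw [hNq, hs', hqe] at hTsq
      nlinarith [mul_self_nonneg (J - e * (2 * (e : ℤ) + 1))]
    have hsum1 : α χ = 1 - ξ := by
      have := hαlam θ₁ hθ₁
      rw [Finset.sum_eq_single_of_mem χ hχ huniq, ← hξ] at this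
      linarith
    refine ⟨?_, ?_, ?_⟩
    · have := Finset.single_le_sum (f := fun χ => α χ ^ 2) (fun χ _ => sq_nonneg (α χ)) hχ
      simp only [hsum1] at this
      rw [hs'] at hsum2
      have hab : (|ξ| - 1) * (|ξ| - 1) ≤ (1 - ξ) ^ 2 := by
        nlinarith [le_abs_self ξ, abs_mul_abs_self ξ]
      linarith [abs_mul_abs_self ξ, show ξ ^ 2 = ξ * ξ by ring]
    · rw [hsum1]
      exact (abs_sub _ _).trans (by rw [abs_one, add_comm])
    · by_cases hξ0 : ξ = 0
      · left; rw [hξ0, abs_zero]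
      right
      have h1 : (charDegree (X θ₁ : G → ℂ) : ℤ) ∣ (e : ℤ) * ξ :=
        hcopX.dvd_of_dvd_mul_left (by
          have := hαd (X θ₁); rw [← hξ, ← hedef, mul_assoc] at this; exact this)
      have h2 := Int.le_of_dvd (abs_pos.mpr (mul_ne_zero (by omega) hξ0)) ((dvd_abs _ _).mpr h1)
      rw [hdegX θ₁ hθ₁, abs_mul, Nat.abs_cast] at h2
      linarith

end Cfsg.Agent.Lib.ZassOddKernel
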