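import Cfsg.Agent.Lib.SuzukiKernel.Induced
import Cfsg.Agent.Lib.Block.Klein

/-!
Zassenhaus groups whose point stabilisers have odd order: involutions, square roots and the values
of the characters at an involution.
-/

set_option autoImplicit false
set_option linter.style.haveILetI false

open scoped ComplexConjugate

namespace Cfsg.Agent.Lib.ZassOddKernel

open MulAction Cfsg.Agent.Lib.Char Cfsg.Agent.Lib.Zass Cfsg.Agent.Lib.ZassFrob
open Cfsg.Agent.Lib.SuzukiKernel (fs fs_bounds roots roots_cast classInner_roots sum_fs_mult mult mult_spec triv cbar tw)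

universe u v

variable {G : Type u} {Ω : Type v} [Group G] [MulAction G Ω]

/-- A Zassenhaus group with kernel and two-point stabiliser of odd order, the latter cyclic and inverted. -/
structure OddKer (U : Subgroup G) (a b : Ω) (v : G) : Prop where
  zass : IsZassenhausGroup G Ω
  kernel : IsKernel U a b
  odd_kernel : Odd (Nat.card U)
  odd_twoPt : Odd (Nat.card ↥(stabilizer G a ⊓ stabilizer G b))
  cyclic : IsCyclic ↥(stabilizer G a ⊓ stabilizer G b)
  order : orderOf v = 2
  left : v • a = b
  right : v • b = a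
  inverts : ∀ k ∈ stabilizer G a ⊓ stabilizer G b, v * k * v⁻¹ = k⁻¹

variable {U : Subgroup G} {a b : Ω} {v : G}

namespace OddKer

section

variable [Finite G] [Finite Ω] (h : OddKer U a b v)
include h

omit [Finite G] [Finite Ω] in
theorem sq : v * v = 1 := by rw [← pow_two, ← h.order, pow_orderOf_eq_one]

theorem ne_one : v ≠ 1 := fun e => by have := h.order; simp [e] at this

/-- An element of the point stabiliser has odd order. -/
theorem odd_order {g : G} (hg : g • a = a) : Odd (orderOf g) := by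
  have hd : orderOf g ∣ Nat.card (stabilizer G a) :=
    Subgroup.orderOf_dvd_natCard _ (show g ∈ stabilizer G a from hg)
  rw [card_stab h.zass h.kernel.ne, ← h.kernel.card_eq, Nat.add_sub_cancel] at hd
  exact (h.odd_kernel.mul h.odd_twoPt).of_dvd_nat hd

/-- Involutions fix no point. -/
theorem fpf {s : G} (hs : s * s = 1) (hs1 : s ≠ 1) (c : Ω) : s • c ≠ c := by
  intro hc
  haveI := h.zass.2.1
  haveI : IsPretransitive G Ω := isPretransitive_of_is_two_pretransitive
  obtain ⟨g, hg⟩ := exists_smul_eq G c a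
  refine hs1 (conj_eq_one_iff.mp (RankOne.eq_one_of_mul_self (h.odd_order (g := g * s * g⁻¹) ?_) ?_))
  · rw [mul_smul, mul_smul, ← hg, inv_smul_smul, hc]
  · rw [show g * s * g⁻¹ * (g * s * g⁻¹) = g * (s * s) * g⁻¹ by group, hs, mul_one, mul_inv_cancel]

/-- All involutions are conjugate. -/
theorem invol_conj {s : G} (hs : s * s = 1) (hs1 : s ≠ 1) : IsConj v s := by
  obtain ⟨g, hga, hgb⟩ := exists_map_pair h.zass (h.fpf hs hs1 a).symm h.kernel.ne
  refine IsConj.trans ?_ (isConj_iff.mpr ⟨g⁻¹, rfl⟩ : IsConj (g * s * g⁻¹) (g⁻¹ * (g * s * g⁻¹) * g⁻¹⁻¹)) |>.trans ?_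
  swap
  · rw [show g⁻¹ * (g * s * g⁻¹) * g⁻¹⁻¹ = s by group]
  set k := v * (g * s * g⁻¹) with hk
  have hs2 : s • (s • a) = a := by rw [smul_smul, hs, one_smul]
  have hkmem : k ∈ stabilizer G a ⊓ stabilizer G b := by
    constructor
    · show k • a = a
      rw [hk, mul_smul, mul_smul, mul_smul, inv_smul_eq_iff.mpr hga.symm, hgb, h.right]
    · show k • b = b
      rw [hk, mul_smul, mul_smul, mul_smul, inv_smul_eq_iff.mpr hgb.symm, hs2, hga, h.left]
  have hsk : g * s * g⁻¹ = v * k := by rw [hk, ← mul_assoc, h.sq, one_mul]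
  set r := RankOne.sqrtOdd k
  have hr : r * r = k := RankOne.sqrtOdd_mul_self (h.odd_order hkmem.1)
  have hr2 := h.inverts r (RankOne.sqrtOdd_mem hkmem)
  refine isConj_iff.mpr ⟨r⁻¹, ?_⟩
  have hvr : r⁻¹ * v = v * r := by
    rw [← hr2, mul_assoc, inv_mul_cancel, mul_one]
  rw [inv_inv, hvr, mul_assoc, hr, hsk]

variable [Fintype G]

open scoped _root_.Classical in
theorem card_swap :
    (Finset.univ.filter fun s : G => (s * s = 1 ∧ s ≠ 1) ∧ s • a = b).card =
      Nat.card ↥(stabilizer G a ⊓ stabilizer G b) := by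
  haveI := Fintype.ofFinite ↥(stabilizer G a ⊓ stabilizer G b)
  rw [Nat.card_eq_fintype_card, ← Finset.card_univ]
  symm
  refine Finset.card_bij (fun (k : ↥(stabilizer G a ⊓ stabilizer G b)) _ => v * (k : G)) (fun k _ => ?_)
    (fun k _ l _ e => Subtype.ext (mul_left_cancel e)) fun s hs => ?_
  · simp only [Finset.mem_filter, Finset.mem_univ, true_and]
    have h1 : v * (k : G) * (v * k) = 1 := by
      rw [show v * (k : G) * (v * k) = v * k * v⁻¹ * (v * v) * k by group, h.sq, h.inverts k k.2]
      group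
    have h2 : (v * (k : G)) • a = b := by rw [mul_smul, show (k : G) • a = a from k.2.1, h.left]
    exact ⟨⟨h1, fun e => h.kernel.ne (by rw [← h2, e, one_smul])⟩, h2⟩
  · simp only [Finset.mem_filter, Finset.mem_univ, true_and] at hs
    obtain ⟨⟨hss, -⟩, hsa⟩ := hs
    have hsb : s • b = a := by rw [← hsa, smul_smul, hss, one_smul]
    refine ⟨⟨v * s, ?_, ?_⟩, Finset.mem_univ _, ?_⟩
    · show (v * s) • a = a
      rw [mul_smul, hsa, h.right]
    · show (v * s) • b = b
      rw [mul_smul, hsb, h.left]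
    · show v * (v * s) = s
      rw [← mul_assoc, h.sq, one_mul]

open scoped _root_.Classical in
theorem card_invol :
    (Finset.univ.filter fun s : G => s * s = 1 ∧ s ≠ 1).card =
      Nat.card U * Nat.card ↥(stabilizer G a ⊓ stabilizer G b) := by
  haveI := Fintype.ofFinite Ω
  set T := Finset.univ.filter fun s : G => s * s = 1 ∧ s ≠ 1 with hT
  have key : (T ×ˢ (Finset.univ : Finset Ω)).card =
      ∑ p ∈ (Finset.univ : Finset Ω).offDiag, Nat.card ↥(stabilizer G a ⊓ stabilizer G b) := by
    rw [Finset.card_eq_sum_card_fiberwise (f := fun x : G × Ω => (x.2, x.1 • x.2))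
      (t := (Finset.univ : Finset Ω).offDiag) (fun x hx => by
        simp only [Finset.coe_product, Set.mem_prod, hT, Finset.coe_filter, Finset.mem_univ, true_and,
          Set.mem_ofPred_eq, Finset.coe_univ, Set.mem_univ, and_true] at hx
        simp only [Finset.coe_offDiag, Set.mem_offDiag, Finset.coe_univ, Set.mem_univ, true_and]
        exact (h.fpf hx.1 hx.2 _).symm)]
    refine Finset.sum_congr rfl fun p hp => ?_
    have hp' : p.1 ≠ p.2 := (Finset.mem_offDiag.mp hp).2.2
    obtain ⟨g, hga, hgb⟩ := exists_map_pair h.zass hp' h.kernel.ne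
    rw [← h.card_swap]
    refine Finset.card_bij (fun x _ => g * x.1 * g⁻¹) (fun x hx => ?_) (fun x hx y hy e => ?_) fun s hs => ?_
    · simp only [Finset.mem_filter, Finset.mem_product, hT, Finset.mem_univ, true_and, and_true] at hx ⊢
      obtain ⟨⟨h1, h2⟩, h3⟩ := hx
      refine ⟨⟨?_, fun e => h2 (conj_eq_one_iff.mp e)⟩, ?_⟩
      · rw [show g * x.1 * g⁻¹ * (g * x.1 * g⁻¹) = g * (x.1 * x.1) * g⁻¹ by group, h1, mul_one,
          mul_inv_cancel]
      · rw [mul_smul, mul_smul, inv_smul_eq_iff.mpr hga.symm, ← hgb, ← h3]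
    · simp only [Finset.mem_filter] at hx hy
      refine Prod.ext (by simpa using e) ?_
      exact (congrArg Prod.fst hx.2).trans (congrArg Prod.fst hy.2).symm
    · simp only [Finset.mem_filter, Finset.mem_univ, true_and] at hs
      obtain ⟨⟨hss, hs1⟩, hsa⟩ := hs
      refine ⟨(g⁻¹ * s * g, p.1), ?_, by group⟩
      simp only [Finset.mem_filter, Finset.mem_product, hT, Finset.mem_univ, true_and, and_true]
      refine ⟨⟨?_, fun e => hs1 ?_⟩, Prod.ext rfl ?_⟩
      · rw [show g⁻¹ * s * g * (g⁻¹ * s * g) = g⁻¹ * (s * s) * g by group, hss, mul_one, inv_mul_cancel]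
      · rw [show s = g * (g⁻¹ * s * g) * g⁻¹ by group, e, mul_one, mul_inv_cancel]
      · show (g⁻¹ * s * g) • p.1 = p.2
        rw [mul_smul, mul_smul, hga, hsa, inv_smul_eq_iff, hgb]
  rw [Finset.card_product, Finset.sum_const, smul_eq_mul, Finset.offDiag_card, Finset.card_univ,
    ← Nat.card_eq_fintype_card, ← h.kernel.card_eq,
    show (Nat.card U + 1) * (Nat.card U + 1) = Nat.card U * (Nat.card U + 1) + (Nat.card U + 1) by ring,
    Nat.add_sub_cancel] at key
  refine Nat.eq_of_mul_eq_mul_right (Nat.succ_pos (Nat.card U)) ?_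
  rw [Nat.succ_eq_add_one, key]
  ring

theorem roots_one : roots (1 : G) = Nat.card U * Nat.card ↥(stabilizer G a ⊓ stabilizer G b) + 1 := by
  classical
  rw [← h.card_invol]
  simp only [roots]
  rw [← Finset.card_insert_of_notMem (s := Finset.univ.filter fun s : G => s * s = 1 ∧ s ≠ 1) (a := 1)
    (by simp)]
  congr 1
  ext s
  by_cases hs : s = 1 <;> simp [hs]

theorem roots_kernel [Fintype U] (u : U) : roots u = 1 := by
  classical
  simp only [roots]
  have hodd : ∀ x : U, Odd (orderOf x) := fun x => h.odd_kernel.of_dvd_nat (orderOf_dvd_natCard x)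
  refine Finset.card_eq_one.mpr ⟨RankOne.sqrtOdd u, Finset.ext fun s => ?_⟩
  simp only [Finset.mem_filter, Finset.mem_univ, true_and, Finset.mem_singleton]
  exact ⟨fun e => RankOne.sq_inj (hodd s) (hodd _) (by rw [e, RankOne.sqrtOdd_mul_self (hodd u)]),
    fun e => by rw [e, RankOne.sqrtOdd_mul_self (hodd u)]⟩

theorem roots_restrict [Fintype U] (u : U) (hu : u ≠ 1) : roots (u : G) = 1 := by
  classical
  rw [← h.roots_kernel u]
  simp only [roots]
  refine (Finset.card_bij (fun (s : U) _ => (s : G)) (fun s hs => ?_)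
    (fun s _ t _ e => Subtype.ext e) fun x hx => ?_).symm
  · simp only [Finset.mem_filter, Finset.mem_univ, true_and] at hs ⊢
    exact congrArg Subtype.val hs
  · simp only [Finset.mem_filter, Finset.mem_univ, true_and] at hx
    have hxa : x • a = a := h.kernel.fix_only u.2 (fun e => hu (Subtype.ext e)) (by
      have e : (x * x) • a = a := hx ▸ h.kernel.le u.2
      rw [smul_smul, show (u : G) * x = x * (u : G) by rw [← hx, mul_assoc], ← hx, mul_smul, e])
    obtain ⟨w, k, hwk⟩ := SuzukiKernel.decomp h.kernel hxa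
    have hk2 : (k : G) * k = 1 := h.kernel.disj (by
      have e : (k : G) * k = ((k : G) * (w : G) * (k : G)⁻¹)⁻¹ * ((w : G)⁻¹ * u) := by
        rw [← hx, hwk]; group
      rw [e]
      exact mul_mem (inv_mem (h.kernel.conj k k.2.1 w w.2)) (mul_mem (inv_mem w.2) u.2))
      ((stabilizer G a ⊓ stabilizer G b).mul_mem k.2 k.2).2
    have hk1 : (k : G) = 1 := RankOne.eq_one_of_mul_self (h.odd_order k.2.1) hk2
    rw [hk1, mul_one] at hwk
    subst hwk
    refine ⟨w, ?_, rfl⟩
    simp only [Finset.mem_filter, Finset.mem_univ, true_and]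
    exact Subtype.ext hx

open scoped _root_.Classical in
theorem fs_kernel [Fintype U] (θ : IrrCharacter U) : fs θ = if θ = triv then 1 else 0 := by
  have e := classInner_roots θ
  simp only [h.roots_kernel, Nat.cast_one] at e
  rw [show (fun _ : U => (1 : ℂ)) = ((triv : IrrCharacter U) : U → ℂ) from rfl,
    classInner_irrCharacter] at e
  split_ifs at e ⊢ with h1 h2 h2
  · exact_mod_cast e.symm
  · exact absurd h1.symm h2
  · exact absurd h2.symm h1
  · exact_mod_cast e.symm

open scoped _root_.Classical in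
theorem fs_count [Fintype U] (θ : IrrCharacter U) :
    ∑ χ : IrrCharacter G, fs χ * (mult U χ θ : ℤ) = (if θ = triv then (1 : ℤ) else 0) +
      (Nat.card ↥(stabilizer G a ⊓ stabilizer G b) : ℤ) * charDegree (θ : U → ℂ) := by
  have e := sum_fs_mult U θ
  rw [show (fun u : U => (roots (u : G) : ℂ)) = ((triv : IrrCharacter U) : U → ℂ) + fun u : U =>
      if u = 1 then (Nat.card U * Nat.card ↥(stabilizer G a ⊓ stabilizer G b) : ℂ) else 0 from
    funext fun u => by
      by_cases hu : u = 1
      · subst hu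
        rw [Pi.add_apply, if_pos rfl, OneMemClass.coe_one, h.roots_one]
        simp [triv, add_comm]
      · rw [Pi.add_apply, if_neg hu, add_zero, h.roots_restrict u hu]; simp [triv],
    classInner_add_left, classInner_irrCharacter] at e
  have h2 : classInner (fun u : U =>
      if u = 1 then (Nat.card U * Nat.card ↥(stabilizer G a ⊓ stabilizer G b) : ℂ) else 0) (θ : U → ℂ) =
      (Nat.card ↥(stabilizer G a ⊓ stabilizer G b) * charDegree (θ : U → ℂ) : ℂ) := by
    simp only [classInner, ite_mul, zero_mul, Finset.sum_ite_eq', Finset.mem_univ, if_true,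
      SuzukiKernel.deg_cast, map_natCast]
    field_simp [card_ne_zero_complex U]
  rw [h2, if_congr eq_comm rfl rfl] at e
  refine Int.cast_injective (α := ℂ) ?_
  push_cast
  exact e

theorem not_mem_stab {x : G} : x⁻¹ * v * x ∉ stabilizer G a := fun hm => by
  refine h.ne_one ?_
  have h1 := RankOne.eq_one_of_mul_self (h.odd_order (g := x⁻¹ * v * x) hm) (by
    rw [show x⁻¹ * v * x * (x⁻¹ * v * x) = x⁻¹ * (v * v) * x by group, h.sq, mul_one, inv_mul_cancel])
  rw [show v = x * (x⁻¹ * v * x) * x⁻¹ by group, h1, mul_one, mul_inv_cancel]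

/-- The column of an involution. -/
theorem exists_values [Fintype U] : ∃ α : IrrCharacter G → ℤ,
    (∀ χ : IrrCharacter G, (χ : G → ℂ) v = α χ) ∧
    ∑ χ : IrrCharacter G, α χ ^ 2 = (Nat.card U : ℤ) + 1 ∧
    (∀ θ : IrrCharacter U, ∑ χ : IrrCharacter G, α χ * (mult U χ θ : ℤ) = 0) ∧
    ∀ χ : IrrCharacter G, (charDegree (χ : G → ℂ) : ℤ) ∣
      (Nat.card U : ℤ) * Nat.card ↥(stabilizer G a ⊓ stabilizer G b) * α χ := by
  classical
  choose α hα using fun χ : IrrCharacter G => Block.exists_int_of_sq_eq_one (isCharacter_of_isIrr χ.2) h.sq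
  have hC : (Finset.univ.filter fun x : G => IsConj x v) = Finset.univ.filter fun s : G => s * s = 1 ∧ s ≠ 1 := by
    ext s
    simp only [Finset.mem_filter, Finset.mem_univ, true_and]
    refine ⟨fun hs => ?_, fun hs => (h.invol_conj hs.1 hs.2).symm⟩
    obtain ⟨g, hg⟩ := isConj_iff.mp hs.symm
    subst hg
    refine ⟨?_, fun e => h.ne_one (conj_eq_one_iff.mp e)⟩
    rw [show g * v * g⁻¹ * (g * v * g⁻¹) = g * (v * v) * g⁻¹ by group, h.sq, mul_one, mul_inv_cancel]
  set c := Nat.card U * Nat.card ↥(stabilizer G a ⊓ stabilizer G b) with hc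
  have hCc : (Finset.univ.filter fun x : G => IsConj x v).card = c := by rw [hC, h.card_invol]
  have hG : (Nat.card G : ℂ) = (Nat.card U + 1 : ℕ) * (c : ℂ) := by
    rw [SuzukiKernel.card_G h.kernel h.zass, hc]; push_cast; ring
  have hc0 : (c : ℂ) ≠ 0 := by
    rw [hc]; exact_mod_cast (Nat.mul_pos Nat.card_pos Nat.card_pos).ne'
  set φ : G → ℂ := fun x => if IsConj x v then 1 else 0 with hφ
  have hcf : IsClassFunction G φ := fun x g => by
    simp only [hφ]
    exact if_congr ⟨fun e => (isConj_iff.mpr ⟨g, rfl⟩ : IsConj x (g * x * g⁻¹)).trans e,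
      fun e => (isConj_iff.mpr ⟨g, rfl⟩ : IsConj x (g * x * g⁻¹)).symm.trans e⟩ rfl rfl
  have hin : ∀ χ : IrrCharacter G, classInner φ (χ : G → ℂ) = (α χ : ℂ) / (Nat.card U + 1 : ℕ) := by
    intro χ
    simp only [classInner, hφ, ite_mul, one_mul, zero_mul]
    rw [sum_conjClass_mul (f := fun x => conj ((χ : G → ℂ) x))
      (fun x g => by simp only [isClassFunction_of_isIrr χ.2 x g]) v, hCc, hα, map_intCast, hG]
    have : ((Nat.card U + 1 : ℕ) : ℂ) ≠ 0 := Nat.cast_ne_zero.mpr (Nat.succ_ne_zero _)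
    field_simp
  have hv1 : ((Nat.card U + 1 : ℕ) : ℂ) ≠ 0 := Nat.cast_ne_zero.mpr (Nat.succ_ne_zero _)
  refine ⟨α, hα, ?_, fun θ => ?_, fun χ => ?_⟩
  · have e := classInner_eq_sum (φ := φ) hcf
    simp only [hin, map_div₀, map_intCast, map_natCast] at e
    have e1 : classInner φ φ = 1 / ((Nat.card U + 1 : ℕ) : ℂ) := by
      simp only [classInner, hφ, apply_ite (starRingEnd ℂ), map_one, map_zero, mul_ite, mul_one,
        mul_zero]
      rw [Finset.sum_congr rfl (g := fun x : G => if IsConj x v then (1 : ℂ) else 0)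
        fun x _ => by split_ifs <;> rfl, Finset.sum_boole, hCc, hG]
      field_simp
    rw [e1, Finset.sum_congr rfl (g := fun χ => ((α χ : ℂ) ^ 2) / ((Nat.card U + 1 : ℕ) : ℂ) ^ 2)
      fun χ _ => by ring, ← Finset.sum_div] at e
    field_simp at e
    refine Int.cast_injective (α := ℂ) ?_
    push_cast at e ⊢
    linear_combination -e
  · have e : classInner (fun u : U => φ u) (θ : U → ℂ) =
        ∑ χ : IrrCharacter G, ((α χ : ℂ) / (Nat.card U + 1 : ℕ)) * (mult U χ θ : ℂ) := by
      conv_lhs => rw [eq_sum_classInner_smul hcf]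
      rw [show (fun u : U => (∑ χ : IrrCharacter G, classInner φ χ • (χ : G → ℂ)) u) =
        ∑ χ : IrrCharacter G, classInner φ χ • (fun u : U => (χ : G → ℂ) u) from
        funext fun u => by simp [Finset.sum_apply], classInner_sum_left]
      exact Finset.sum_congr rfl fun χ _ => by rw [classInner_smul_left, mult_spec, hin]
    have h0 : (fun u : U => φ u) = 0 := funext fun u => if_neg fun hu => by
      obtain ⟨g, hg⟩ := isConj_iff.mp hu.symm
      refine h.not_mem_stab (x := g⁻¹) ?_
      rw [inv_inv, hg]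
      exact h.kernel.le u.2
    rw [h0, classInner_zero_left, Finset.sum_congr rfl
      (g := fun χ => ((α χ : ℂ) * (mult U χ θ : ℂ)) / ((Nat.card U + 1 : ℕ) : ℂ)) fun χ _ => by ring,
      ← Finset.sum_div, eq_comm, div_eq_zero_iff] at e
    exact_mod_cast e.resolve_right hv1
  · have hi := isIntegral_classSize_mul_div χ.2 v
    rw [← card_conjClass_eq_index, hCc, hα, SuzukiKernel.deg_cast] at hi
    obtain ⟨z, hz⟩ := exists_int_of_isIntegral
      (q := ((c : ℚ) * (α χ : ℚ)) / (charDegree (χ : G → ℂ) : ℚ)) (by push_cast; exact hi)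
    rw [div_eq_iff (Nat.cast_ne_zero.mpr (charDegree_pos χ.2).ne')] at hz
    refine ⟨z, ?_⟩
    have : ((c : ℤ) * α χ) = z * (charDegree (χ : G → ℂ) : ℤ) := by exact_mod_cast hz
    rw [hc] at this
    push_cast at this
    linarith

end

end OddKer

end Cfsg.Agent.Lib.ZassOddKernel
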